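import Mathlib.RingTheory.PowerSeries.Exp
import Mathlib.RingTheory.PowerSeries.Derivative
import Mathlib.RingTheory.PowerSeries.Substitution
import Mathlib.RingTheory.PowerSeries.Inverse
import Mathlib.FieldTheory.RatFunc.AsPolynomial
import Mathlib.Algebra.MonoidAlgebra.Basic
import Mathlib.Analysis.Complex.Polynomial.Basic
import Mathlib.LinearAlgebra.LinearIndependent.Basic
import Mathlib.Tactic

/-!
# Rationality of `exp (∑ F(q^v) t^v / v)` forces `F` to be a Laurent polynomial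
-/

set_option autoImplicit false

namespace StackCountA.RationalExp

noncomputable section

open scoped PowerSeries

/-- the denominators -/
def den (L : List ℕ) : Polynomial ℤ := (L.map fun n => Polynomial.X ^ (n + 1) - 1).prod

theorem den_monic (L : List ℕ) : (den L).Monic := by
  induction L with
  | nil => simp [den]
  | cons n L ih =>
    have h1 : ((Polynomial.X : Polynomial ℤ) ^ (n + 1) - 1).Monic := by
      rw [← Polynomial.C_1]; exact Polynomial.monic_X_pow_sub_C 1 (Nat.succ_ne_zero n)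
    simpa [den] using h1.mul ih

abbrev toF : Polynomial ℤ →+* RatFunc ℚ :=
  (algebraMap (Polynomial ℚ) (RatFunc ℚ)).comp (Polynomial.mapRingHom (Int.castRingHom ℚ))

theorem exists_rep {F : RatFunc ℚ}
    (hF : F ∈ Subring.closure
      (({RatFunc.X, (RatFunc.X : RatFunc ℚ)⁻¹} : Set (RatFunc ℚ)) ∪
        Set.range fun n : ℕ => ((RatFunc.X : RatFunc ℚ) ^ (n + 1) - 1)⁻¹)) :
    ∃ (a : ℕ) (L : List ℕ) (P : Polynomial ℤ), F * toF (Polynomial.X ^ a * den L) = toF P := by
  have hX : toF Polynomial.X = RatFunc.X := by simp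
  induction hF using Subring.closure_induction with
  | mem x hx =>
    rcases hx with (rfl | rfl) | ⟨n, rfl⟩
    · exact ⟨0, [], Polynomial.X, by simp [den]⟩
    · refine ⟨1, [], 1, ?_⟩
      simp [den, hX, (RatFunc.X_ne_zero : (RatFunc.X : RatFunc ℚ) ≠ 0)]
    · refine ⟨0, [n], 1, ?_⟩
      have hne : ((RatFunc.X : RatFunc ℚ) ^ (n + 1) - 1) ≠ 0 := by
        have h1 : (Polynomial.X ^ (n + 1) - Polynomial.C 1 : Polynomial ℚ) ≠ 0 :=
          Polynomial.X_pow_sub_C_ne_zero (Nat.succ_pos n) 1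
        rw [← RatFunc.algebraMap_X]
        intro h
        exact h1 (IsFractionRing.injective (Polynomial ℚ) (RatFunc ℚ) (by simpa using h))
      simp [den, hne]
  | zero => exact ⟨0, [], 0, by simp⟩
  | one => exact ⟨0, [], 1, by simp [den]⟩
  | add x y _ _ hx hy =>
    obtain ⟨a, L, P, hP⟩ := hx
    obtain ⟨b, M, R, hR⟩ := hy
    refine ⟨a + b, L ++ M, P * (Polynomial.X ^ b * den M) + R * (Polynomial.X ^ a * den L), ?_⟩
    rw [show den (L ++ M) = den L * den M by simp [den]]
    simp only [map_add, map_mul, map_pow, pow_add, ← hP, ← hR]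
    ring
  | neg x _ hx =>
    obtain ⟨a, L, P, hP⟩ := hx
    exact ⟨a, L, -P, by rw [map_neg, ← hP, neg_mul]⟩
  | mul x y _ _ hx hy =>
    obtain ⟨a, L, P, hP⟩ := hx
    obtain ⟨b, M, R, hR⟩ := hy
    refine ⟨a + b, L ++ M, P * R, ?_⟩
    rw [show den (L ++ M) = den L * den M by simp [den]]
    simp only [map_mul, map_pow, pow_add, ← hP, ← hR]
    ring

theorem eval_rep {F : RatFunc ℚ} {D P : Polynomial ℤ} (hD : D ≠ 0) (h : F * toF D = toF P) (x : ℚ)
    (hx : (D.map (Int.castRingHom ℚ)).eval x ≠ 0) :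
    F.eval (RingHom.id ℚ) x * (D.map (Int.castRingHom ℚ)).eval x =
      (P.map (Int.castRingHom ℚ)).eval x := by
  set D' := D.map (Int.castRingHom ℚ) with hD'def
  set P' := P.map (Int.castRingHom ℚ) with hP'def
  have hD0 : D' ≠ 0 := Polynomial.map_ne_zero_iff Int.cast_injective |>.mpr hD
  have h' : F * algebraMap (Polynomial ℚ) (RatFunc ℚ) D' = algebraMap (Polynomial ℚ) (RatFunc ℚ) P' := h
  have hne : algebraMap (Polynomial ℚ) (RatFunc ℚ) D' ≠ 0 := RatFunc.algebraMap_ne_zero hD0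
  have hF : F = algebraMap _ _ P' / algebraMap _ _ D' := by rw [eq_div_iff hne, h']
  have hden : (RatFunc.denom F).eval x ≠ 0 := by
    intro h0
    obtain ⟨c, hc⟩ : RatFunc.denom F ∣ D' := hF ▸ RatFunc.denom_div_dvd P' D'
    rw [hc, Polynomial.eval_mul, h0, zero_mul] at hx
    exact hx rfl
  have hid : RatFunc.num F * D' = P' * RatFunc.denom F := by
    apply IsFractionRing.injective (Polynomial ℚ) (RatFunc ℚ)
    rw [map_mul, map_mul]
    have h2 := RatFunc.num_div_denom F
    rw [div_eq_iff (RatFunc.algebraMap_ne_zero (RatFunc.denom_ne_zero F))] at h2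
    rw [h2, ← h']
    ring
  have h3 := congrArg (Polynomial.eval x) hid
  rw [Polynomial.eval_mul, Polynomial.eval_mul] at h3
  rw [RatFunc.eval, Polynomial.eval₂_id, Polynomial.eval₂_id, div_mul_eq_mul_div, div_eq_iff hden, h3]

theorem den_eval_ne (L : List ℕ) {x : ℚ} (hx : 1 < x) :
    ((den L).map (Int.castRingHom ℚ)).eval x ≠ 0 := by
  induction L with
  | nil => simp [den]
  | cons n L ih =>
    rw [show den (n :: L) = (Polynomial.X ^ (n + 1) - 1) * den L from List.prod_cons,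
      Polynomial.map_mul, Polynomial.eval_mul]
    refine mul_ne_zero ?_ ih
    simp only [Polynomial.map_sub, Polynomial.map_pow, Polynomial.map_X, Polynomial.map_one,
      Polynomial.eval_sub, Polynomial.eval_pow, Polynomial.eval_X, Polynomial.eval_one]
    exact sub_ne_zero.mpr (one_lt_pow₀ hx n.succ_ne_zero).ne'

/-- formal exponential sums -/
abbrev ES : Type := MonoidAlgebra ℤ ℂˣ

/-- evaluation at `v` -/
def ev (v : ℕ) : ES →ₐ[ℤ] ℂ :=
  MonoidAlgebra.lift ℤ ℂ ℂˣ ((powMonoidHom v).comp (Units.coeHom ℂ))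

theorem ev_single (v : ℕ) (u : ℂˣ) (c : ℤ) : ev v (MonoidAlgebra.single u c) = c * (u : ℂ) ^ v := by
  simp [ev, zsmul_eq_mul]

theorem eq_zero_of_ev {y : ES} (h : ∀ v : ℕ, 1 ≤ v → ev v y = 0) : y = 0 := by
  classical
  have hinj : Function.Injective fun u : ℂˣ => powersHom ℂ (u : ℂ) := by
    intro u w e
    exact Units.ext ((powersHom ℂ).injective e)
  have li : LinearIndependent ℂ fun u : ℂˣ => (powersHom ℂ (u : ℂ) : Multiplicative ℕ → ℂ) :=
    (linearIndependent_monoidHom (Multiplicative ℕ) ℂ).comp _ hinj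
  have hsum : ∑ u ∈ y.coeff.support, ((y.coeff u : ℂ) * u) •
      ((powersHom ℂ (u : ℂ) : Multiplicative ℕ →* ℂ) : Multiplicative ℕ → ℂ) = 0 := by
    funext m
    have h1 := h (Multiplicative.toAdd m + 1) (Nat.le_add_left 1 _)
    rw [ev, MonoidAlgebra.lift_apply] at h1
    rw [Finset.sum_apply, Pi.zero_apply]
    refine Eq.trans ?_ h1
    refine Finset.sum_congr rfl fun u _ => ?_
    simp [zsmul_eq_mul, pow_succ]
    ring
  apply MonoidAlgebra.coeff_inj.mp
  ext u
  by_cases hu : u ∈ y.coeff.support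
  · have := linearIndependent_iff'.mp li _ _ hsum u hu
    simpa using (mul_eq_zero.mp this).resolve_right u.ne_zero
  · simpa [Finsupp.mem_support_iff] using hu

theorem coset_support {H : Subgroup ℂˣ} {g : ℂˣ} (hg : g ∈ H) (hord : ∀ n : ℕ, g ^ (n + 1) ≠ 1)
    {y : ES} (h : ∀ u : ℂˣ, u ∉ H → (MonoidAlgebra.single g (1 : ℤ) * y - y).coeff u = 0) :
    ∀ u : ℂˣ, u ∉ H → y.coeff u = 0 := by
  intro u hu
  by_contra h0
  have hstep : ∀ w : ℂˣ, w ∉ H → y.coeff (g⁻¹ * w) = y.coeff w := by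
    intro w hw
    have h1 := h w hw
    rw [MonoidAlgebra.coeff_sub, Finsupp.sub_apply, sub_eq_zero,
      MonoidAlgebra.coeff_single_mul_apply, one_mul] at h1
    exact h1
  have hn : ∀ n : ℕ, g⁻¹ ^ n * u ∈ (y.coeff.support : Set ℂˣ) := by
    intro n
    induction n with
    | zero => simpa using h0
    | succ n ih =>
      have hnot : g⁻¹ ^ n * u ∉ H := by
        rwa [H.mul_mem_cancel_left (H.pow_mem (H.inv_mem hg) n)]
      simp only [Finset.mem_coe, Finsupp.mem_support_iff] at ih ⊢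
      rwa [pow_succ', mul_assoc, hstep _ hnot]
  have hi : Function.Injective fun n : ℕ => g⁻¹ ^ n * u := by
    intro a b e
    have e' : g ^ a = g ^ b := by
      have := mul_right_cancel e
      rwa [inv_pow, inv_pow, inv_inj] at this
    by_contra hab
    wlog hlt : a < b generalizing a b
    · exact this e.symm e'.symm (Ne.symm hab) (by omega)
    obtain ⟨c, rfl⟩ := Nat.exists_eq_add_of_lt hlt
    rw [Nat.add_assoc, pow_add] at e'
    exact hord c (by simpa using e')
  exact (Set.infinite_of_injective_forall_mem hi hn) y.coeff.support.finite_toSet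

theorem exists_expSum_of_multiset (s : Multiset ℂ) (hs : ∀ r ∈ s, r ≠ 0) :
    ∃ (y : ES) (G : PowerSeries ℂ), (∀ v : ℕ, PowerSeries.coeff v G = ev (v + 1) y) ∧
      d⁄dX ℂ (((s.map fun r => Polynomial.X - Polynomial.C r).prod : Polynomial ℂ) : PowerSeries ℂ) =
        G * (((s.map fun r => Polynomial.X - Polynomial.C r).prod : Polynomial ℂ) : PowerSeries ℂ) := by
  induction s using Multiset.induction with
  | empty => exact ⟨0, 0, fun v => by simp, by simp⟩
  | cons r s ih =>
    obtain ⟨y, G, hy, hG⟩ := ih fun t ht => hs t (Multiset.mem_cons_of_mem ht)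
    have hr : r⁻¹ ≠ 0 := inv_ne_zero (hs r (Multiset.mem_cons_self r s))
    refine ⟨y - MonoidAlgebra.single (Units.mk0 _ hr) 1,
      G - PowerSeries.mk fun v => r⁻¹ ^ (v + 1), fun v => ?_, ?_⟩
    · rw [map_sub, map_sub, hy, PowerSeries.coeff_mk, ev_single, Units.val_mk0, Int.cast_one, one_mul]
    · have hgeom : (PowerSeries.mk fun v => r⁻¹ ^ (v + 1)) * (PowerSeries.X - PowerSeries.C r) = -1 := by
        ext k
        have hr0 : r ≠ 0 := hs r (Multiset.mem_cons_self r s)
        rw [mul_sub, map_sub, map_neg, PowerSeries.coeff_one]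
        cases k with
        | zero => simp [hr0]
        | succ k =>
          rw [PowerSeries.coeff_succ_mul_X, PowerSeries.coeff_mul_C]
          simp [pow_succ, hr0]
          ring
      rw [Multiset.map_cons, Multiset.prod_cons, Polynomial.coe_mul, Derivation.leibniz, hG,
        Polynomial.coe_sub, Polynomial.coe_X, Polynomial.coe_C, map_sub, PowerSeries.derivative_X,
        PowerSeries.derivative_C]
      simp only [smul_eq_mul, sub_zero, mul_one]
      generalize (((s.map fun r => Polynomial.X - Polynomial.C r).prod : Polynomial ℂ) : PowerSeries ℂ) = R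
      linear_combination R * hgeom

theorem exists_expSum (Q : Polynomial ℂ) (hQ : Q.eval 0 ≠ 0) :
    ∃ (y : ES) (G : PowerSeries ℂ), (∀ v : ℕ, PowerSeries.coeff v G = ev (v + 1) y) ∧
      d⁄dX ℂ (Q : PowerSeries ℂ) = G * (Q : PowerSeries ℂ) := by
  have hQ0 : Q ≠ 0 := by rintro rfl; simp at hQ
  obtain ⟨y, G, hy, hG⟩ := exists_expSum_of_multiset Q.roots fun r hr => by
    rintro rfl; exact hQ ((Polynomial.mem_roots hQ0).mp hr)
  refine ⟨y, G, hy, ?_⟩
  conv_lhs => rw [(IsAlgClosed.splits Q).eq_prod_roots]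
  conv_rhs => rw [(IsAlgClosed.splits Q).eq_prod_roots]
  rw [Polynomial.coe_mul, Derivation.leibniz, hG, Polynomial.coe_C, PowerSeries.derivative_C]
  simp only [smul_eq_mul, mul_zero, add_zero]
  ring

theorem exists_coeff_eq_ev {S : PowerSeries ℚ} (hS0 : PowerSeries.constantCoeff S = 0)
    {P Q : Polynomial ℚ} (hQ : Q ≠ 0)
    (h : (PowerSeries.exp ℚ).subst S * (Q : PowerSeries ℚ) = (P : PowerSeries ℚ)) :
    ∃ y : ES, ∀ v : ℕ, ((PowerSeries.coeff v (d⁄dX ℚ S) : ℚ) : ℂ) = ev (v + 1) y := by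
  have hsub : PowerSeries.HasSubst S := PowerSeries.HasSubst.of_constantCoeff_zero' hS0
  set E : PowerSeries ℚ := (PowerSeries.exp ℚ).subst S with hE
  have hE' : d⁄dX ℚ E = E * d⁄dX ℚ S := by
    rw [hE, PowerSeries.derivative_subst hsub, PowerSeries.derivative_exp]
  have hE0 : PowerSeries.constantCoeff E = 1 := by
    rw [hE, ← PowerSeries.coeff_zero_eq_constantCoeff_apply, PowerSeries.coeff_subst' hsub,
      finsum_eq_single _ 0 fun d hd => by
        simp [PowerSeries.coeff_zero_eq_constantCoeff_apply, map_pow, hS0, zero_pow hd]]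
    simp
  obtain ⟨Q₁, hQ₁, hQdvd⟩ := Polynomial.exists_eq_pow_rootMultiplicity_mul_and_not_dvd Q hQ 0
  rw [map_zero, sub_zero] at hQ₁ hQdvd
  set b := Q.rootMultiplicity 0
  obtain ⟨P₁, hP₁⟩ : (Polynomial.X : Polynomial ℚ) ^ b ∣ P := by
    rw [Polynomial.X_pow_dvd_iff]
    intro d hd
    rw [← Polynomial.coeff_coe, ← h, hQ₁, Polynomial.coe_mul, Polynomial.coe_pow, Polynomial.coe_X,
      ← mul_assoc, mul_comm E, mul_assoc, PowerSeries.coeff_X_pow_mul', if_neg (Nat.not_le.mpr hd)]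
  have h1 : E * (Q₁ : PowerSeries ℚ) = (P₁ : PowerSeries ℚ) := by
    refine mul_left_cancel₀ (pow_ne_zero b (PowerSeries.X_ne_zero (R := ℚ))) ?_
    have := h
    rw [hQ₁, hP₁, Polynomial.coe_mul, Polynomial.coe_mul, Polynomial.coe_pow, Polynomial.coe_X] at this
    rw [← this]
    ring
  have hQ₁0 : Q₁.eval 0 ≠ 0 := by
    rw [← Polynomial.coeff_zero_eq_eval_zero]
    exact fun h0 => hQdvd (Polynomial.X_dvd_iff.mpr h0)
  have hP₁0 : P₁.eval 0 = Q₁.eval 0 := by
    have h2 := congrArg PowerSeries.constantCoeff h1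
    rw [map_mul, hE0, one_mul, Polynomial.constantCoeff_coe, Polynomial.constantCoeff_coe,
      Polynomial.coeff_zero_eq_eval_zero, Polynomial.coeff_zero_eq_eval_zero] at h2
    exact h2.symm
  let c := algebraMap ℚ ℂ
  have hmap : ∀ R : Polynomial ℚ, R.eval 0 ≠ 0 → (R.map c).eval 0 ≠ 0 := by
    intro R hR
    rw [Polynomial.eval_map, Polynomial.eval₂_at_zero]
    rw [← Polynomial.coeff_zero_eq_eval_zero] at hR
    exact fun h0 => hR (c.injective (by rw [h0, map_zero]))
  obtain ⟨y, G, hy, hG⟩ := exists_expSum (P₁.map c) (hmap _ (hP₁0 ▸ hQ₁0))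
  obtain ⟨z, K, hz, hK⟩ := exists_expSum (Q₁.map c) (hmap _ hQ₁0)
  refine ⟨y - z, fun v => ?_⟩
  have hder : ∀ f : PowerSeries ℚ,
      d⁄dX ℂ (PowerSeries.map c f) = PowerSeries.map c (d⁄dX ℚ f) := by
    intro f; ext k; simp [PowerSeries.coeff_derivative]
  have hEC : d⁄dX ℂ (PowerSeries.map c E) = PowerSeries.map c E * PowerSeries.map c (d⁄dX ℚ S) := by
    rw [hder, hE', map_mul]
  have h2 : PowerSeries.map c E * ((Q₁.map c : Polynomial ℂ) : PowerSeries ℂ) =
      ((P₁.map c : Polynomial ℂ) : PowerSeries ℂ) := by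
    rw [Polynomial.polynomial_map_coe, Polynomial.polynomial_map_coe, ← map_mul, h1]
  have hne : ((P₁.map c : Polynomial ℂ) : PowerSeries ℂ) ≠ 0 := by
    rw [Ne, Polynomial.coe_eq_zero_iff]
    intro h0
    exact hmap _ (hP₁0 ▸ hQ₁0) (by rw [h0, Polynomial.eval_zero])
  have h3 : PowerSeries.map c (d⁄dX ℚ S) = G - K := by
    refine mul_left_cancel₀ hne ?_
    have h4 := congrArg (d⁄dX ℂ) h2
    rw [Derivation.leibniz, hK, hEC, hG] at h4
    simp only [smul_eq_mul] at h4
    linear_combination h4 + (-PowerSeries.map c (d⁄dX ℚ S) - K) * h2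
  have h5 := congrArg (PowerSeries.coeff v) h3
  rw [PowerSeries.coeff_map, map_sub, hy, hz, ← map_sub] at h5
  exact h5

theorem main (q : ℤ) (hq : 1 < q) (F : RatFunc ℚ)
    (hF : F ∈ Subring.closure
      (({RatFunc.X, (RatFunc.X : RatFunc ℚ)⁻¹} : Set (RatFunc ℚ)) ∪
        Set.range fun n : ℕ => ((RatFunc.X : RatFunc ℚ) ^ (n + 1) - 1)⁻¹))
    (hrat : ∃ P Q : Polynomial ℚ, Q ≠ 0 ∧
      (PowerSeries.exp ℚ).subst
          (PowerSeries.mk fun v : ℕ => if v = 0 then (0 : ℚ)
            else F.eval (RingHom.id ℚ) ((q : ℚ) ^ v) / (v : ℚ))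
        * (Q : PowerSeries ℚ) = (P : PowerSeries ℚ)) :
    ∃ (P : Polynomial ℤ) (a : ℕ),
      F * RatFunc.X ^ a = algebraMap (Polynomial ℚ) (RatFunc ℚ) (P.map (Int.castRingHom ℚ)) := by
  classical
  obtain ⟨P₀, Q₀, hQ₀, heq⟩ := hrat
  obtain ⟨a, L, N, hN⟩ := exists_rep hF
  set S := PowerSeries.mk fun v : ℕ => if v = 0 then (0 : ℚ)
            else F.eval (RingHom.id ℚ) ((q : ℚ) ^ v) / (v : ℚ) with hSdef
  have hS0 : PowerSeries.constantCoeff S = 0 := by
    simp [hSdef, ← PowerSeries.coeff_zero_eq_constantCoeff_apply]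
  obtain ⟨y, hy⟩ := exists_coeff_eq_ev hS0 hQ₀ heq
  have hFv : ∀ v : ℕ, 1 ≤ v → ((F.eval (RingHom.id ℚ) ((q : ℚ) ^ v) : ℚ) : ℂ) = ev v y := by
    intro v hv
    obtain ⟨k, rfl⟩ := Nat.exists_eq_add_of_le' hv
    rw [← hy k]
    congr 1
    rw [PowerSeries.coeff_derivative, hSdef, PowerSeries.coeff_mk, if_neg (Nat.succ_ne_zero k)]
    push_cast
    field_simp
  have hq0 : (q : ℂ) ≠ 0 := Int.cast_ne_zero.mpr (by omega)
  let g : ℂˣ := Units.mk0 (q : ℂ) hq0
  let H : Subgroup ℂˣ := Subgroup.zpowers g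
  let hat : Polynomial ℤ →+* ES :=
    (Polynomial.aeval (MonoidAlgebra.of ℤ ℂˣ g)).toRingHom
  have hhat : ∀ (R : Polynomial ℤ) (v : ℕ), ev v (hat R) =
      (((R.map (Int.castRingHom ℚ)).eval ((q : ℚ) ^ v) : ℚ) : ℂ) := by
    intro R v
    induction R using Polynomial.induction_on' with
    | add p r hp hr => simp [map_add, hp, hr]
    | monomial n c =>
      simp [hat, MonoidAlgebra.of_apply, MonoidAlgebra.single_pow, ev_single, g, ← pow_mul, mul_comm n v]
  set D : Polynomial ℤ := Polynomial.X ^ a * den L with hDdef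
  have hD : D ≠ 0 := mul_ne_zero (pow_ne_zero a Polynomial.X_ne_zero) (den_monic L).ne_zero
  have hq1 : (1 : ℚ) < q := by exact_mod_cast hq
  have hDv : ∀ v : ℕ, 1 ≤ v → (D.map (Int.castRingHom ℚ)).eval ((q : ℚ) ^ v) ≠ 0 := by
    intro v hv
    rw [hDdef]
    simp only [Polynomial.map_mul, Polynomial.map_pow, Polynomial.map_X, Polynomial.eval_mul,
      Polynomial.eval_pow, Polynomial.eval_X]
    exact mul_ne_zero (pow_ne_zero _ (pow_ne_zero _ (by linarith)))
      (den_eval_ne L (one_lt_pow₀ hq1 (by omega)))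
  have hkey : y * hat D = hat N := by
    refine sub_eq_zero.mp (eq_zero_of_ev fun v hv => ?_)
    rw [map_sub, map_mul, ← hFv v hv, hhat, hhat, sub_eq_zero, ← Rat.cast_mul,
      eval_rep hD hN _ (hDv v hv)]
  have hsuppN : ∀ (R : Polynomial ℤ) (u : ℂˣ), u ∉ H → (hat R).coeff u = 0 := by
    intro R u hu
    induction R using Polynomial.induction_on' with
    | add p r hp hr => simp [map_add, hp, hr]
    | monomial n c =>
      have : g ^ n ≠ u := fun e => hu (e ▸ ⟨n, by simp⟩)
      have h2 : hat (Polynomial.monomial n c) = c • (MonoidAlgebra.single (g ^ n) (1 : ℤ) : ES) := by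
        simp [hat, MonoidAlgebra.of_apply, MonoidAlgebra.single_pow]
        rw [← zsmul_eq_mul]
        simp
      rw [h2]
      simp [MonoidAlgebra.coeff_smul, MonoidAlgebra.coeff_single, this]
  have hord : ∀ n : ℕ, g ^ (n + 1) ≠ 1 := by
    intro n h1
    have h2 : ((q ^ (n + 1) : ℤ) : ℂ) = ((1 : ℤ) : ℂ) := by
      push_cast; exact congrArg Units.val h1
    exact (one_lt_pow₀ hq (Nat.succ_ne_zero n)).ne' (Int.cast_injective h2)
  have hL : ∀ (M : List ℕ) (z : ES), (∀ u : ℂˣ, u ∉ H → (z * hat (den M)).coeff u = 0) →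
      ∀ u : ℂˣ, u ∉ H → z.coeff u = 0 := by
    intro M
    induction M with
    | nil => intro z hz u hu; simpa [den] using hz u hu
    | cons n M ih =>
      intro z hz
      have hgn : g ^ (n + 1) ∈ H := H.pow_mem (Subgroup.mem_zpowers g) _
      refine coset_support hgn (fun j => ?_) ?_
      · obtain ⟨c, hc⟩ : ∃ c, (n + 1) * (j + 1) = c + 1 :=
          ⟨(n + 1) * (j + 1) - 1, (Nat.sub_add_cancel (Nat.mul_pos n.succ_pos j.succ_pos)).symm⟩
        rw [← pow_mul, hc]
        exact hord c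
      refine ih _ fun u hu => ?_
      have h1 := hz u hu
      rw [show den (n :: M) = (Polynomial.X ^ (n + 1) - 1) * den M from List.prod_cons, map_mul,
        ← mul_assoc] at h1
      convert h1 using 4
      simp [hat, MonoidAlgebra.of_apply, MonoidAlgebra.single_pow, mul_sub, mul_comm]
  have hsupp : ∀ u : ℂˣ, u ∉ H → y.coeff u = 0 := by
    intro u hu
    have hga : hat (Polynomial.X ^ a) = MonoidAlgebra.single (g ^ a) (1 : ℤ) := by
      simp [hat, MonoidAlgebra.of_apply, MonoidAlgebra.single_pow]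
    have hgH : g ^ a ∈ H := H.pow_mem (Subgroup.mem_zpowers g) _
    have h1 := hL L (MonoidAlgebra.single (g ^ a) (1 : ℤ) * y) (fun w hw => by
      rw [← hga, show hat (Polynomial.X ^ a) * y * hat (den L) = y * hat D by
        rw [hDdef, map_mul]; ring, hkey]
      exact hsuppN N w hw) (g ^ a * u) (by rwa [H.mul_mem_cancel_left hgH])
    simpa [MonoidAlgebra.coeff_single_mul_apply] using h1
  have hgH : ∀ u ∈ y.coeff.support, ∃ m : ℤ, g ^ m = u := fun u hu => by
    by_contra hne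
    exact (Finsupp.mem_support_iff.mp hu) (hsupp u hne)
  choose! m hm using hgH
  let a' : ℕ := y.coeff.support.sup fun u => (-(m u)).toNat
  let P : Polynomial ℤ := ∑ u ∈ y.coeff.support, Polynomial.monomial ((m u + a').toNat) (y.coeff u)
  refine ⟨P, a', ?_⟩
  have hPv : ∀ v : ℕ, 1 ≤ v →
      (((P.map (Int.castRingHom ℚ)).eval ((q : ℚ) ^ v) : ℚ) : ℂ) = (((q : ℂ) ^ v)) ^ a' * ev v y := by
    intro v _
    rw [ev, MonoidAlgebra.lift_apply, Finsupp.sum, Finset.mul_sum]
    simp only [P, Polynomial.map_sum, Polynomial.eval_finsetSum, Rat.cast_sum]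
    refine Finset.sum_congr rfl fun u hu => ?_
    have hnn : 0 ≤ m u + a' := by
      have h1 : (-(m u)).toNat ≤ a' := Finset.le_sup (f := fun u => (-(m u)).toNat) hu
      omega
    have hu' : (u : ℂ) = (q : ℂ) ^ m u := by
      rw [← congrArg Units.val (hm u hu), Units.val_zpow_eq_zpow_val]; rfl
    simp only [Polynomial.map_monomial, Polynomial.eval_monomial, eq_intCast, Rat.cast_mul,
      Rat.cast_intCast, Rat.cast_pow, MonoidHom.coe_comp, Function.comp_apply, Units.coeHom_apply,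
      powMonoidHom_apply, zsmul_eq_mul, hu']
    rw [← zpow_natCast (((q : ℂ) ^ v)) ((m u + a').toNat), Int.toNat_of_nonneg hnn,
      zpow_add₀ (pow_ne_zero v hq0), zpow_natCast, ← zpow_natCast (q : ℂ) v, ← zpow_mul,
      ← zpow_natCast ((q : ℂ) ^ m u) v, ← zpow_mul, mul_comm (v : ℤ)]
    ring
  have hid : P.map (Int.castRingHom ℚ) * D.map (Int.castRingHom ℚ) =
      N.map (Int.castRingHom ℚ) * Polynomial.X ^ a' := by
    refine Polynomial.eq_of_infinite_eval_eq _ _ (Set.Infinite.mono ?_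
      (Set.infinite_range_of_injective (f := fun v : ℕ => (q : ℚ) ^ (v + 1))
        fun i j e => Nat.succ_injective (pow_right_injective₀ (by linarith) hq1.ne' e)))
    rintro _ ⟨v, rfl⟩
    simp only [Set.mem_setOf_eq, Polynomial.eval_mul, Polynomial.eval_pow, Polynomial.eval_X]
    rw [← eval_rep hD hN _ (hDv (v + 1) (Nat.le_add_left 1 v))]
    apply (algebraMap ℚ ℂ).injective
    simp only [eq_ratCast, Rat.cast_mul, hPv (v + 1) (Nat.le_add_left 1 v),
      ← hFv (v + 1) (Nat.le_add_left 1 v), Rat.cast_pow, Rat.cast_intCast]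
    ring
  have hne : toF D ≠ 0 :=
    RatFunc.algebraMap_ne_zero (Polynomial.map_ne_zero_iff Int.cast_injective |>.mpr hD)
  refine mul_right_cancel₀ hne ?_
  have h2 := congrArg (algebraMap (Polynomial ℚ) (RatFunc ℚ)) hid
  rw [map_mul, map_mul, map_pow, RatFunc.algebraMap_X] at h2
  calc F * RatFunc.X ^ a' * toF D = F * toF D * RatFunc.X ^ a' := by ring
    _ = toF N * RatFunc.X ^ a' := by rw [hN]
    _ = _ := h2.symm

end

end StackCountA.RationalExp
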