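import Groth.Prelude.Def_W4c1btstackcountsChain
import Mathlib.LinearAlgebra.FiniteDimensional.Lemmas
import Mathlib.LinearAlgebra.Basis.VectorSpace
import Mathlib.LinearAlgebra.Prod
import Mathlib.LinearAlgebra.Dimension.Constructions
import Mathlib.LinearAlgebra.FreeModule.Finite.Matrix
import Mathlib.LinearAlgebra.StdBasis
import Mathlib.LinearAlgebra.Matrix.ToLinearEquiv

/-!
# Chains of matrices are classified by their rank arrays
-/

set_option autoImplicit false
set_option linter.style.haveILetI false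
set_option linter.unusedSectionVars false

open Module

namespace StackCountA.RankArr

noncomputable section

section LinAlg

variable {k : Type*} [Field k]
variable {V V' T T' : Type*} [AddCommGroup V] [Module k V] [FiniteDimensional k V]
  [AddCommGroup V'] [Module k V'] [FiniteDimensional k V']
  [AddCommGroup T] [Module k T] [AddCommGroup T'] [Module k T']

theorem exists_rel_compl {A W : Submodule k V} (h : A ≤ W) :
    ∃ C : Submodule k V, C ≤ W ∧ A ⊓ C = ⊥ ∧ A ⊔ C = W := by
  obtain ⟨C, hC⟩ := exists_isCompl A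
  refine ⟨C ⊓ W, inf_le_right, ?_, ?_⟩
  · rw [← inf_assoc, hC.inf_eq_bot, bot_inf_eq]
  · rw [← sup_inf_assoc_of_le C h, hC.sup_eq_top, top_inf_eq]

theorem finrank_map_add_ker (h : V →ₗ[k] T) (W : Submodule k V) :
    finrank k (W.map h) + finrank k (LinearMap.ker h ⊓ W : Submodule k V) = finrank k W := by
  have h1 := (h.domRestrict W).finrank_range_add_finrank_ker
  rw [LinearMap.range_domRestrict, LinearMap.ker_domRestrict] at h1
  have h2 : finrank k (Submodule.comap W.subtype (LinearMap.ker h)) =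
      finrank k (LinearMap.ker h ⊓ W : Submodule k V) := by
    rw [(Submodule.equivMapOfInjective _ W.injective_subtype _).finrank_eq,
      Submodule.map_comap_subtype, inf_comm]
  omega

theorem finrank_of_sup_inf {A C W : Submodule k V} (hi : A ⊓ C = ⊥) (hs : A ⊔ C = W) :
    finrank k A + finrank k C = finrank k W := by
  have := Submodule.finrank_sup_add_finrank_inf_eq A C
  rw [hi, hs, finrank_bot] at this
  omega

/-- extension of an adapted isomorphism -/
theorem exists_extend_adapted (h : V →ₗ[k] T) (h' : V' →ₗ[k] T') (φ : T →ₗ[k] T')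
    (hφ : Function.Injective φ) {W₀ W : Submodule k V} (h0 : W₀ ≤ W) {W' : Submodule k V'}
    (g : V →ₗ[k] V') (hg : ∀ x ∈ W₀, g x = 0 → x = 0) (hgW : W₀.map g ≤ W')
    (hcomm : ∀ x ∈ W₀, h' (g x) = φ (h x))
    (himg : (W.map h).map φ = W'.map h') (hdim : finrank k W = finrank k W') :
    ∃ g₁ : V →ₗ[k] V', (∀ x ∈ W₀, g₁ x = g x) ∧ (∀ x ∈ W, g₁ x = 0 → x = 0) ∧ W.map g₁ = W' ∧
      ∀ x ∈ W, h' (g₁ x) = φ (h x) := by
  set D := LinearMap.ker h ⊓ W with hD
  set D' := LinearMap.ker h' ⊓ W' with hD'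
  have hdD : finrank k D = finrank k D' := by
    have e1 := finrank_map_add_ker h W
    have e2 := finrank_map_add_ker h' W'
    have e3 := (Submodule.equivMapOfInjective φ hφ (W.map h)).finrank_eq
    rw [himg] at e3
    rw [← hD] at e1
    rw [← hD'] at e2
    omega
  obtain ⟨C₂, hC₂le, hC₂i, hC₂s⟩ := exists_rel_compl (inf_le_right : W₀ ⊓ D ≤ D)
  obtain ⟨C₁, hC₁le, hC₁i, hC₁s⟩ := exists_rel_compl (sup_le h0 inf_le_right : W₀ ⊔ D ≤ W)
  let g0 : W₀ →ₗ[k] V' := g.domRestrict W₀
  have hg0 : Function.Injective g0 := by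
    rw [← LinearMap.ker_eq_bot, eq_bot_iff]
    intro x hx
    exact Submodule.mem_bot k |>.mpr (Subtype.ext (hg x.1 x.2 hx))
  have hX : finrank k ((W₀ ⊓ D).map g) = finrank k (W₀ ⊓ D : Submodule k V) := by
    have e1 := finrank_map_add_ker g (W₀ ⊓ D)
    have e2 : (LinearMap.ker g ⊓ (W₀ ⊓ D) : Submodule k V) = ⊥ := by
      rw [eq_bot_iff]
      rintro x ⟨hx1, hx2, -⟩
      exact hg x hx2 hx1
    rw [e2, finrank_bot] at e1
    omega
  have hXle : (W₀ ⊓ D).map g ≤ D' := by
    rintro _ ⟨x, ⟨hx0, hxk, -⟩, rfl⟩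
    refine ⟨?_, hgW (Submodule.mem_map_of_mem hx0)⟩
    show h' (g x) = 0
    rw [hcomm x hx0, LinearMap.mem_ker.mp hxk, map_zero]
  obtain ⟨C₂', hC₂'le, hC₂'i, hC₂'s⟩ := exists_rel_compl hXle
  have hdC₂ : finrank k C₂ = finrank k C₂' := by
    have e1 := finrank_of_sup_inf hC₂i hC₂s
    have e2 := finrank_of_sup_inf hC₂'i hC₂'s
    omega
  let e₂ : C₂ ≃ₗ[k] C₂' := LinearEquiv.ofFinrankEq C₂ C₂' hdC₂
  let hr : W' →ₗ[k] W'.map h' := (h'.domRestrict W').codRestrict _ fun x => Submodule.mem_map_of_mem x.2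
  have hrs : Function.Surjective hr := by
    rintro ⟨_, x, hx, rfl⟩
    exact ⟨⟨x, hx⟩, rfl⟩
  obtain ⟨s, hs⟩ := hr.exists_rightInverse_of_surjective (LinearMap.range_eq_top.mpr hrs)
  let c₁ : C₁ →ₗ[k] V' := W'.subtype ∘ₗ s ∘ₗ (φ ∘ₗ h ∘ₗ C₁.subtype).codRestrict (W'.map h')
    (fun x => himg ▸ Submodule.mem_map_of_mem (Submodule.mem_map_of_mem (hC₁le x.2)))
  have hc₁ : ∀ x : C₁, h' (c₁ x) = φ (h x.1) := fun x =>
    congrArg Subtype.val (LinearMap.congr_fun hs _)
  have hc₁W : ∀ x : C₁, c₁ x ∈ W' := fun x => Subtype.prop _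
  let ι : (W₀ × C₁ × C₂) →ₗ[k] V :=
    W₀.subtype.coprod (C₁.subtype.coprod C₂.subtype)
  let ψ : (W₀ × C₁ × C₂) →ₗ[k] V' :=
    g0.coprod (c₁.coprod (C₂'.subtype ∘ₗ e₂.toLinearMap))
  have hψ : ∀ z, h' (ψ z) = φ (h (ι z)) := by
    rintro ⟨a, b, c⟩
    have hc : h c.1 = 0 := LinearMap.mem_ker.mp (hC₂le c.2).1
    have hc' : h' (e₂ c).1 = 0 := LinearMap.mem_ker.mp (hC₂'le (e₂ c).2).1
    simp [ι, ψ, g0, hc₁, hcomm a.1 a.2, hc, hc']
  have hι : Function.Injective ι := by
    rw [← LinearMap.ker_eq_bot, eq_bot_iff]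
    rintro ⟨a, b, c⟩ hz
    simp [ι] at hz
    have hb : b.1 ∈ (W₀ ⊔ D) ⊓ C₁ := by
      refine ⟨?_, b.2⟩
      have : b.1 = -(a.1 + c.1) := by
        rw [eq_neg_iff_add_eq_zero, ← hz]; abel
      rw [this]
      exact neg_mem (add_mem (Submodule.mem_sup_left a.2) (Submodule.mem_sup_right (hC₂le c.2)))
    rw [hC₁i, Submodule.mem_bot] at hb
    rw [hb, zero_add] at hz
    have hc : c.1 ∈ (W₀ ⊓ D) ⊓ C₂ := by
      have : c.1 = -a.1 := eq_neg_of_add_eq_zero_right hz
      exact ⟨⟨this ▸ neg_mem a.2, hC₂le c.2⟩, c.2⟩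
    rw [hC₂i, Submodule.mem_bot] at hc
    rw [hc, add_zero] at hz
    simp only [Submodule.mem_bot, Prod.ext_iff]
    exact ⟨Subtype.ext hz, Subtype.ext hb, Subtype.ext hc⟩
  have hψi : Function.Injective ψ := by
    rw [← LinearMap.ker_eq_bot, eq_bot_iff]
    rintro ⟨a, b, c⟩ hz
    have h1 := hψ (a, b, c)
    rw [LinearMap.mem_ker.mp hz, map_zero] at h1
    have h2 : h (ι (a, b, c)) = 0 := hφ (h1.symm.trans (map_zero φ).symm)
    have hmem : ι (a, b, c) ∈ D := ⟨h2, by
      simp only [ι, LinearMap.coprod_apply, Submodule.coe_subtype]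
      exact add_mem (h0 a.2) (add_mem (hC₁le b.2) (hC₂le c.2).2)⟩
    simp [ι] at hmem
    have hb : b.1 ∈ (W₀ ⊔ D) ⊓ C₁ := by
      refine ⟨?_, b.2⟩
      have : b.1 = (a.1 + (b.1 + c.1)) - a.1 - c.1 := by abel
      rw [this]
      exact sub_mem (sub_mem (Submodule.mem_sup_right hmem) (Submodule.mem_sup_left a.2))
        (Submodule.mem_sup_right (hC₂le c.2))
    rw [hC₁i, Submodule.mem_bot] at hb
    obtain rfl : b = 0 := Subtype.ext hb
    simp at hmem
    have ha : a.1 ∈ W₀ ⊓ D := ⟨a.2, by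
      have := sub_mem hmem (hC₂le c.2)
      simpa using this⟩
    have hz' : g a.1 + (e₂ c).1 = 0 := by simpa [ψ, g0] using hz
    have hc : (e₂ c).1 ∈ (W₀ ⊓ D).map g ⊓ C₂' := by
      refine ⟨?_, (e₂ c).2⟩
      rw [eq_neg_of_add_eq_zero_right hz']
      exact neg_mem (Submodule.mem_map_of_mem ha)
    rw [hC₂'i, Submodule.mem_bot] at hc
    rw [hc, add_zero] at hz'
    have ha0 := hg _ a.2 hz'
    have hc0 : c = 0 := e₂.map_eq_zero_iff.mp (Subtype.ext hc)
    simp only [Submodule.mem_bot, Prod.ext_iff]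
    exact ⟨Subtype.ext ha0, rfl, hc0⟩
  have hιr : LinearMap.range ι = W := by
    simp only [ι, LinearMap.range_coprod, Submodule.range_subtype]
    rw [← hC₁s, ← hC₂s]
    apply le_antisymm
    · exact sup_le (le_sup_of_le_left le_sup_left) (sup_le le_sup_right
        (le_sup_of_le_left (le_sup_of_le_right le_sup_right)))
    · exact sup_le (sup_le le_sup_left (sup_le (le_trans inf_le_left le_sup_left)
        (le_sup_of_le_right le_sup_right))) (le_sup_of_le_right le_sup_left)
  have hψr : LinearMap.range ψ = W' := by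
    have hle : LinearMap.range ψ ≤ W' := by
      rintro _ ⟨⟨a, b, c⟩, rfl⟩
      simp only [ψ, g0, LinearMap.coprod_apply, LinearMap.domRestrict_apply, LinearMap.comp_apply,
        Submodule.coe_subtype, LinearEquiv.coe_coe]
      exact add_mem (hgW (Submodule.mem_map_of_mem a.2)) (add_mem (hc₁W b) (hC₂'le (e₂ c).2).2)
    refine Submodule.eq_of_le_of_finrank_eq hle ?_
    rw [LinearMap.finrank_range_of_inj hψi, ← hdim, ← hιr, LinearMap.finrank_range_of_inj hι]
  obtain ⟨p, hp⟩ := ι.exists_leftInverse_of_injective (LinearMap.ker_eq_bot.mpr hι)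
  refine ⟨ψ ∘ₗ p, fun x hx => ?_, fun x hx hx0 => ?_, ?_, fun x hx => ?_⟩
  · have : p x = ((⟨x, hx⟩ : W₀), 0, 0) := by
      have := LinearMap.congr_fun hp ((⟨x, hx⟩ : W₀), 0, 0)
      simpa [ι] using this
    simp [this, ψ, g0]
  · rw [← hιr] at hx
    obtain ⟨z, rfl⟩ := hx
    have hpz : p (ι z) = z := LinearMap.congr_fun hp z
    rw [LinearMap.comp_apply, hpz] at hx0
    rw [hψi (hx0.trans (map_zero ψ).symm), map_zero]
  · rw [← hιr, ← LinearMap.range_comp, LinearMap.comp_assoc, hp, LinearMap.comp_id, hψr]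
  · rw [← hιr] at hx
    obtain ⟨z, rfl⟩ := hx
    rw [LinearMap.comp_apply, show p (ι z) = z from LinearMap.congr_fun hp z, hψ]

theorem exists_flag_equiv (h : V →ₗ[k] T) (h' : V' →ₗ[k] T') (φ : T →ₗ[k] T')
    (hφ : Function.Injective φ) (n : ℕ) (W : ℕ → Submodule k V) (W' : ℕ → Submodule k V')
    (hW : ∀ t < n, W t ≤ W (t + 1)) (hW' : ∀ t < n, W' t ≤ W' (t + 1))
    (h0 : W 0 = ⊥) (h0' : W' 0 = ⊥) (hn : W n = ⊤) (hn' : W' n = ⊤)
    (hdim : ∀ t ≤ n, finrank k (W t) = finrank k (W' t))
    (himg : ∀ t ≤ n, ((W t).map h).map φ = (W' t).map h') :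
    ∃ e : V ≃ₗ[k] V', (∀ t ≤ n, (W t).map e.toLinearMap = W' t) ∧ ∀ x, h' (e x) = φ (h x) := by
  have main : ∀ i ≤ n, ∃ g : V →ₗ[k] V', (∀ x ∈ W i, g x = 0 → x = 0) ∧
      (∀ t ≤ i, (W t).map g = W' t) ∧ ∀ x ∈ W i, h' (g x) = φ (h x) := by
    intro i
    induction i with
    | zero =>
      intro _
      refine ⟨0, fun x hx _ => ?_, fun t ht => ?_, fun x hx => ?_⟩
      · simpa [h0] using hx
      · obtain rfl : t = 0 := by omega
        simp [h0, h0']
      · rw [h0, Submodule.mem_bot] at hx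
        simp [hx]
    | succ i ih =>
      intro hi
      obtain ⟨g, hg, hgt, hgc⟩ := ih (by omega)
      obtain ⟨g₁, hext, hinj, hmap, hc⟩ := exists_extend_adapted h h' φ hφ (hW i (by omega)) g hg
        ((hgt i le_rfl).le.trans (hW' i (by omega))) hgc (himg (i + 1) hi) (hdim (i + 1) hi)
      refine ⟨g₁, hinj, fun t ht => ?_, hc⟩
      rcases Nat.lt_or_ge t (i + 1) with hlt | hge
      · rw [← hgt t (by omega)]
        have hle : W t ≤ W i := by
          have : ∀ s, t ≤ s → s ≤ i → W t ≤ W s := by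
            intro s hs
            induction s, hs using Nat.le_induction with
            | base => exact fun _ => le_rfl
            | succ s _ ihs => exact fun hs' => (ihs (by omega)).trans (hW s (by omega))
          exact this i (by omega) le_rfl
        ext y
        constructor
        · rintro ⟨x, hx, rfl⟩; exact ⟨x, hx, (hext x (hle hx)).symm⟩
        · rintro ⟨x, hx, rfl⟩; exact ⟨x, hx, hext x (hle hx)⟩
      · obtain rfl : t = i + 1 := by omega
        exact hmap
  obtain ⟨g, hg, hgt, hgc⟩ := main n le_rfl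
  have hb : Function.Bijective g := by
    refine ⟨?_, ?_⟩
    · rw [← LinearMap.ker_eq_bot, eq_bot_iff]
      exact fun x hx => Submodule.mem_bot k |>.mpr (hg x (hn ▸ Submodule.mem_top) hx)
    · have := hgt n le_rfl
      rw [hn, hn', Submodule.map_top] at this
      exact LinearMap.range_eq_top.mp this
  refine ⟨LinearEquiv.ofBijective g hb, fun t ht => hgt t ht, fun x => ?_⟩
  exact hgc x (hn ▸ Submodule.mem_top)

theorem exists_flag_map [FiniteDimensional k T] (n : ℕ) (W : ℕ → Submodule k V) (G : ℕ → Submodule k T)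
    (hW : ∀ t < n, W t ≤ W (t + 1)) (hG : ∀ t < n, G t ≤ G (t + 1))
    (h0' : G 0 = ⊥)
    (hdim : ∀ t < n, finrank k (G (t + 1)) + finrank k (W t) ≤
      finrank k (W (t + 1)) + finrank k (G t)) (h0 : W 0 = ⊥) :
    ∃ f : V →ₗ[k] T, ∀ t ≤ n, (W t).map f = G t := by
  induction n with
  | zero =>
    refine ⟨0, fun t ht => ?_⟩
    obtain rfl : t = 0 := by omega
    simp [h0, h0']
  | succ n ih =>
    obtain ⟨f, hf⟩ := ih (fun t ht => hW t (by omega)) (fun t ht => hG t (by omega))
      (fun t ht => hdim t (by omega))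
    obtain ⟨C, hCle, hCi, hCs⟩ := exists_rel_compl (hW n (by omega))
    obtain ⟨C', hC'le, hC'i, hC's⟩ := exists_rel_compl (hG n (by omega))
    have e1 := finrank_of_sup_inf hCi hCs
    have e2 := finrank_of_sup_inf hC'i hC's
    have e3 := hdim n (by omega)
    obtain ⟨q, hq⟩ : ∃ q : C →ₗ[k] C', Function.Surjective q := by
      obtain ⟨b, hb⟩ := finrank_le_iff_exists_linearMap.mp (show finrank k C' ≤ finrank k C by omega)
      obtain ⟨q, hq⟩ := b.exists_leftInverse_of_injective (LinearMap.ker_eq_bot.mpr hb)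
      exact ⟨q, fun x => ⟨b x, LinearMap.congr_fun hq x⟩⟩
    let ι : (W n × C) →ₗ[k] V := (W n).subtype.coprod C.subtype
    let ψ : (W n × C) →ₗ[k] T := (f.domRestrict (W n)).coprod (C'.subtype ∘ₗ q)
    have hι : Function.Injective ι := by
      rw [← LinearMap.ker_eq_bot, eq_bot_iff]
      rintro ⟨a, c⟩ hz
      simp [ι] at hz
      have hc : c.1 ∈ W n ⊓ C := ⟨by
        rw [eq_neg_of_add_eq_zero_right hz]; exact neg_mem a.2, c.2⟩
      rw [hCi, Submodule.mem_bot] at hc
      rw [hc, add_zero] at hz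
      simp only [Submodule.mem_bot, Prod.ext_iff]
      exact ⟨Subtype.ext hz, Subtype.ext hc⟩
    obtain ⟨p, hp⟩ := ι.exists_leftInverse_of_injective (LinearMap.ker_eq_bot.mpr hι)
    have hιr : LinearMap.range ι = W (n + 1) := by
      simp [ι, LinearMap.range_coprod, hCs]
    refine ⟨ψ ∘ₗ p, fun t ht => ?_⟩
    rcases Nat.lt_or_ge t (n + 1) with hlt | hge
    · rw [← hf t (by omega)]
      have hle : W t ≤ W n := by
        have : ∀ s, t ≤ s → s ≤ n → W t ≤ W s := by
          intro s hs
          induction s, hs using Nat.le_induction with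
          | base => exact fun _ => le_rfl
          | succ s _ ihs => exact fun hs' => (ihs (by omega)).trans (hW s (by omega))
        exact this n (by omega) le_rfl
      have key : ∀ x ∈ W t, (ψ ∘ₗ p) x = f x := by
        intro x hx
        have : p x = ((⟨x, hle hx⟩ : W n), 0) := by
          have := LinearMap.congr_fun hp ((⟨x, hle hx⟩ : W n), 0)
          simpa [ι] using this
        simp [this, ψ]
      ext y
      constructor
      · rintro ⟨x, hx, rfl⟩; exact ⟨x, hx, (key x hx).symm⟩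
      · rintro ⟨x, hx, rfl⟩; exact ⟨x, hx, key x hx⟩
    · obtain rfl : t = n + 1 := by omega
      rw [← hιr, ← LinearMap.range_comp, LinearMap.comp_assoc, hp, LinearMap.comp_id]
      simp only [ψ, LinearMap.range_coprod, LinearMap.range_domRestrict, hf n le_rfl,
        LinearMap.range_comp, LinearMap.range_eq_top.mpr hq, Submodule.map_top,
        Submodule.range_subtype, hC's]

end LinAlg

open W4c1btstackcounts

variable {k : Type*} [Field k] {d : ℕ → ℕ}
variable (f : (i : ℕ) → Matrix (Fin (d (i + 1))) (Fin (d i)) k)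

/-- images, indexed by the target -/
def img (i : ℕ) : (j : ℕ) → Submodule k (Fin (d j) → k)
  | 0 => if i = 0 then ⊤ else ⊥
  | j + 1 => if i ≤ j then (img i j).map (Matrix.toLin' (f j)) else if i = j + 1 then ⊤ else ⊥

theorem img_self (i : ℕ) : img f i i = ⊤ := by
  cases i with
  | zero => simp [img]
  | succ i => simp [img]

theorem img_succ {i j : ℕ} (h : i ≤ j) : img f i (j + 1) = (img f i j).map (Matrix.toLin' (f j)) := by
  simp [img, h]

theorem img_eq_iterImage (i n : ℕ) : img f i (i + n) = iterImage f i n := by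
  induction n with
  | zero => exact img_self f i
  | succ n ih =>
    change img f i (i + n + 1) = _
    rw [img_succ f (Nat.le_add_right i n), ih]
    rfl

theorem rankArray_eq {i j : ℕ} (h : i ≤ j) : rankArray f i j = finrank k (img f i j) := by
  obtain ⟨n, rfl⟩ := Nat.exists_eq_add_of_le h
  rw [rankArray, if_pos h, img_eq_iterImage]
  exact congrArg (fun m => finrank k (iterImage f i m)) (Nat.add_sub_cancel_left i n)

/-- the flag at `j` -/
def flag (j t : ℕ) : Submodule k (Fin (d j) → k) := if t = 0 then ⊥ else img f t j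

theorem flag_zero (j : ℕ) : flag f j 0 = ⊥ := by simp [flag]

theorem flag_pos {j t : ℕ} (h : 1 ≤ t) : flag f j t = img f t j := by
  rw [flag, if_neg (by omega)]

theorem flag_top {j : ℕ} (h : 1 ≤ j) : flag f j j = ⊤ := by rw [flag_pos f h, img_self]

theorem flag_succ {j t : ℕ} (h : t ≤ j) :
    flag f (j + 1) t = (flag f j t).map (Matrix.toLin' (f j)) := by
  rcases Nat.eq_zero_or_pos t with rfl | ht
  · simp [flag]
  · rw [flag_pos f ht, flag_pos f ht, img_succ f h]

theorem flag_mono : ∀ (j t : ℕ), t < j → flag f j t ≤ flag f j (t + 1) := by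
  intro j
  induction j with
  | zero => intro t ht; omega
  | succ j ih =>
    intro t ht
    rcases Nat.lt_or_ge t j with h | h
    · rw [flag_succ f h.le, flag_succ f (show t + 1 ≤ j from h)]
      exact Submodule.map_mono (ih t h)
    · obtain rfl : t = j := by omega
      rw [flag_top f (by omega : 1 ≤ t + 1)]
      exact le_top

theorem finrank_flag {j t : ℕ} (ht : 1 ≤ t) (h : t ≤ j) :
    finrank k (flag f j t) = rankArray f t j := by
  rw [flag_pos f ht, rankArray_eq f h]

/-- the automorphism of an invertible matrix -/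
def equivOfGL {n : ℕ} (g : Matrix.GeneralLinearGroup (Fin n) k) : (Fin n → k) ≃ₗ[k] (Fin n → k) :=
  LinearEquiv.ofLinear (Matrix.toLin' (g : Matrix (Fin n) (Fin n) k))
    (Matrix.toLin' ((g⁻¹ : Matrix.GeneralLinearGroup (Fin n) k) : Matrix (Fin n) (Fin n) k))
    (by rw [← Matrix.toLin'_mul, Units.mul_inv, Matrix.toLin'_one])
    (by rw [← Matrix.toLin'_mul, Units.inv_mul, Matrix.toLin'_one])

theorem img_conj (g : (j : ℕ) → Matrix.GeneralLinearGroup (Fin (d j)) k) {i j : ℕ} (h : i ≤ j) :
    img (conj g f) i j = (img f i j).map (equivOfGL (g j)).toLinearMap := by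
  induction j, h using Nat.le_induction with
  | base => rw [img_self, img_self, Submodule.map_top, LinearEquiv.range]
  | succ j hj ih =>
    rw [img_succ _ hj, img_succ _ hj, ih, ← Submodule.map_comp, ← Submodule.map_comp]
    congr 1
    simp only [conj, equivOfGL]
    rw [LinearEquiv.ofLinear_toLinearMap, LinearEquiv.ofLinear_toLinearMap, ← Matrix.toLin'_mul,
      ← Matrix.toLin'_mul, Matrix.mul_assoc, Units.inv_mul, Matrix.mul_one]

theorem part1 (g : (j : ℕ) → Matrix.GeneralLinearGroup (Fin (d j)) k) {i j : ℕ} (h : i ≤ j) :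
    rankArray (conj g f) i j = rankArray f i j := by
  rw [rankArray_eq _ h, rankArray_eq _ h, img_conj f g h]
  exact (LinearEquiv.submoduleMap _ _).finrank_eq.symm

theorem part2 (r : ℕ) : IsRankArray d r (rankArray f) := by
  refine ⟨fun j _ _ => ?_, fun i j hi hij _ => ?_, fun i j _ hij _ => ?_, fun i j hi hij _ => ?_⟩
  · rw [rankArray_eq f le_rfl, img_self, finrank_top, finrank_fin_fun]
  · rw [← finrank_flag f hi hij.le, ← finrank_flag f (by omega) hij]
    exact Submodule.finrank_mono (flag_mono f j i hij)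
  · rw [rankArray_eq f hij, rankArray_eq f (by omega : i ≤ j + 1), img_succ f hij]
    exact Submodule.finrank_map_le _ _
  · rw [← finrank_flag f (by omega : 1 ≤ i) hij, ← finrank_flag f (by omega : 1 ≤ i) (by omega : i ≤ j + 1),
      ← finrank_flag f (by omega : 1 ≤ i - 1) (by omega : i - 1 ≤ j),
      ← finrank_flag f (by omega : 1 ≤ i - 1) (by omega : i - 1 ≤ j + 1),
      flag_succ f hij, flag_succ f (by omega : i - 1 ≤ j)]
    have e1 := finrank_map_add_ker (Matrix.toLin' (f j)) (flag f j i)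
    have e2 := finrank_map_add_ker (Matrix.toLin' (f j)) (flag f j (i - 1))
    have hmono := flag_mono f j (i - 1) (by omega)
    rw [Nat.sub_add_cancel (by omega : 1 ≤ i)] at hmono
    have e3 := Submodule.finrank_mono (inf_le_inf_left (LinearMap.ker (Matrix.toLin' (f j))) hmono)
    omega

theorem part3 (f' : (i : ℕ) → Matrix (Fin (d (i + 1))) (Fin (d i)) k) (r : ℕ)
    (h : ∀ i j : ℕ, 1 ≤ i → i ≤ j → j ≤ r → rankArray f i j = rankArray f' i j) :
    ∃ g : (j : ℕ) → Matrix.GeneralLinearGroup (Fin (d j)) k,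
      ∀ i : ℕ, 1 ≤ i → i + 1 ≤ r → conj g f i = f' i := by
  have hdim : ∀ j t, t ≤ j → j ≤ r → finrank k (flag f j t) = finrank k (flag f' j t) := by
    intro j t htj hjr
    rcases Nat.eq_zero_or_pos t with rfl | ht
    · rw [flag_zero, flag_zero]
    · rw [finrank_flag f ht htj, finrank_flag f' ht htj, h t j ht htj hjr]
  have main : ∀ m, ∃ e : (j : ℕ) → (Fin (d j) → k) ≃ₗ[k] (Fin (d j) → k),
      (∀ j t, r ≤ j + m → 1 ≤ j → j ≤ r → t ≤ j →
        (flag f j t).map (e j).toLinearMap = flag f' j t) ∧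
      ∀ j, r ≤ j + m → 1 ≤ j → j + 1 ≤ r → ∀ x,
        Matrix.toLin' (f' j) (e j x) = e (j + 1) (Matrix.toLin' (f j) x) := by
    intro m
    induction m with
    | zero =>
      rcases Nat.eq_zero_or_pos r with rfl | hr
      · exact ⟨fun _ => LinearEquiv.refl k _, fun j t _ h1 h2 _ => by omega, fun j _ _ h2 => by omega⟩
      obtain ⟨e, he, -⟩ := exists_flag_equiv (0 : (Fin (d r) → k) →ₗ[k] (Fin (d r) → k))
        (0 : (Fin (d r) → k) →ₗ[k] (Fin (d r) → k)) LinearMap.id Function.injective_id r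
        (flag f r) (flag f' r) (flag_mono f r) (flag_mono f' r) (flag_zero f r) (flag_zero f' r)
        (flag_top f hr) (flag_top f' hr) (fun t ht => hdim r t ht le_rfl) (fun t _ => by simp)
      refine ⟨Function.update (fun _ => LinearEquiv.refl k _) r e, fun j t hm _ hjr ht => ?_,
        fun j hm _ hj1 => by omega⟩
      obtain rfl : j = r := by omega
      rw [Function.update_self]
      exact he t ht
    | succ m ih =>
      obtain ⟨e, he, hc⟩ := ih
      by_cases hcase : m + 2 ≤ r
      · obtain ⟨j₀, hj₀⟩ : ∃ j₀, r = j₀ + 1 + m := ⟨r - (m + 1), by omega⟩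
        have hj1 : 1 ≤ j₀ := by omega
        obtain ⟨e₀, he₀, hc₀⟩ := exists_flag_equiv (Matrix.toLin' (f j₀)) (Matrix.toLin' (f' j₀))
          (e (j₀ + 1)).toLinearMap (e (j₀ + 1)).injective j₀
          (flag f j₀) (flag f' j₀) (flag_mono f j₀) (flag_mono f' j₀) (flag_zero f j₀)
          (flag_zero f' j₀) (flag_top f hj1) (flag_top f' hj1)
          (fun t ht => hdim j₀ t ht (by omega))
          (fun t ht => by
            rw [← flag_succ f ht, ← flag_succ f' ht]
            exact he (j₀ + 1) t (by omega) (by omega) (by omega) (by omega))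
        refine ⟨Function.update e j₀ e₀, fun j t hm h1 hjr ht => ?_, fun j hm h1 h2 x => ?_⟩
        · by_cases hj : j = j₀
          · subst hj; rw [Function.update_self]; exact he₀ t ht
          · rw [Function.update_of_ne hj]; exact he j t (by omega) h1 hjr ht
        · rw [Function.update_of_ne (show j + 1 ≠ j₀ by omega)]
          by_cases hj : j = j₀
          · subst hj; rw [Function.update_self]; exact hc₀ x
          · rw [Function.update_of_ne hj]; exact hc j (by omega) h1 h2 x
      · exact ⟨e, fun j t hm h1 hjr ht => he j t (by omega) h1 hjr ht,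
          fun j hm h1 h2 x => hc j (by omega) h1 h2 x⟩
  obtain ⟨e, -, hc⟩ := main r
  refine ⟨fun j => ⟨LinearMap.toMatrix' (e j).toLinearMap, LinearMap.toMatrix' (e j).symm.toLinearMap,
    by rw [← LinearMap.toMatrix'_comp, LinearEquiv.comp_symm, LinearMap.toMatrix'_id],
    by rw [← LinearMap.toMatrix'_comp, LinearEquiv.symm_comp, LinearMap.toMatrix'_id]⟩,
    fun i hi hir => ?_⟩
  apply Matrix.toLin'.injective
  refine LinearMap.ext fun x => ?_
  have h1 := hc i (by omega) hi hir ((e i).symm x)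
  rw [LinearEquiv.apply_symm_apply] at h1
  rw [h1]
  simp only [conj, Units.inv_mk, Matrix.toLin'_mul, Matrix.toLin'_toMatrix', LinearMap.comp_apply,
    LinearEquiv.coe_coe]

/-- standard subspaces -/
def E (n m : ℕ) : Submodule k (Fin n → k) :=
  Submodule.span k (Set.range fun x : {x : Fin n // x.1 < m} => Pi.basisFun k (Fin n) x.1)

theorem E_mono {n m m' : ℕ} (h : m ≤ m') : (E n m : Submodule k (Fin n → k)) ≤ E n m' :=
  Submodule.span_mono (by rintro _ ⟨x, rfl⟩; exact ⟨⟨x.1, lt_of_lt_of_le x.2 h⟩, rfl⟩)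

theorem finrank_E {n m : ℕ} (h : m ≤ n) : finrank k (E n m : Submodule k (Fin n → k)) = m := by
  have li : LinearIndependent k fun x : {x : Fin n // x.1 < m} => Pi.basisFun k (Fin n) x.1 :=
    (Pi.basisFun k (Fin n)).linearIndependent.comp _ Subtype.val_injective
  rw [E, finrank_span_eq_card li]
  let e : {x : Fin n // x.1 < m} ≃ Fin m :=
    { toFun := fun x => ⟨x.1.1, x.2⟩
      invFun := fun x => ⟨⟨x.1, lt_of_lt_of_le x.2 h⟩, x.2⟩
      left_inv := fun x => rfl
      right_inv := fun x => rfl }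
  rw [Fintype.card_congr e, Fintype.card_fin]

theorem part4 (r : ℕ) (a : ℕ → ℕ → ℕ) (ha : IsRankArray d r a) :
    ∃ f : (i : ℕ) → Matrix (Fin (d (i + 1))) (Fin (d i)) k,
      ∀ i j : ℕ, 1 ≤ i → i ≤ j → j ≤ r → rankArray f i j = a i j := by
  obtain ⟨hdiag, hup, hright, hdiff⟩ := ha
  let b : ℕ → ℕ → ℕ := fun t j => if t = 0 then 0 else a t j
  have hb0 : ∀ j, b 0 j = 0 := fun j => rfl
  have hbp : ∀ t j, 1 ≤ t → b t j = a t j := fun t j ht => if_neg (by omega)
  have hbstep : ∀ t j, t < j → j ≤ r → b t j ≤ b (t + 1) j := by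
    intro t j htj hjr
    rcases Nat.eq_zero_or_pos t with rfl | ht
    · rw [hb0]; exact Nat.zero_le _
    · rw [hbp t j ht, hbp (t + 1) j (by omega)]; exact hup t j ht htj hjr
  have hble : ∀ t j, t ≤ j → j ≤ r → b t j ≤ d j := by
    intro t j htj hjr
    induction htj using Nat.decreasingInduction with
    | self =>
      rcases Nat.eq_zero_or_pos j with rfl | hj
      · rw [hb0]; exact Nat.zero_le _
      · rw [hbp j j hj, hdiag j hj hjr]
    | of_succ t hlt ih => exact (hbstep t j hlt hjr).trans ih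
  have hdiff' : ∀ t j, t < j → j < r → b (t + 1) (j + 1) + b t j ≤ b (t + 1) j + b t (j + 1) := by
    intro t j htj hjr
    rcases Nat.eq_zero_or_pos t with rfl | ht
    · simp only [hb0, Nat.add_zero, zero_add, hbp 1 _ le_rfl]
      exact hright 1 j le_rfl (by omega) hjr
    · rw [hbp t j ht, hbp t (j + 1) ht, hbp (t + 1) j (by omega), hbp (t + 1) (j + 1) (by omega)]
      exact hdiff (t + 1) j (by omega) (by omega) hjr
  have hex : ∀ j, ∃ L : (Fin (d j) → k) →ₗ[k] (Fin (d (j + 1)) → k), j < r → ∀ t ≤ j,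
      (E (d j) (b t j) : Submodule k _).map L = E (d (j + 1)) (b t (j + 1)) := by
    intro j
    by_cases hj : j < r
    · obtain ⟨L, hL⟩ := exists_flag_map j (fun t => (E (d j) (b t j) : Submodule k (Fin (d j) → k)))
        (fun t => (E (d (j + 1)) (b t (j + 1)) : Submodule k (Fin (d (j + 1)) → k)))
        (fun t ht => E_mono (hbstep t j ht hj.le))
        (fun t ht => E_mono (hbstep t (j + 1) (by omega) hj))
        (by simp [E, hb0])
        (fun t ht => by
          rw [finrank_E (hble (t + 1) (j + 1) (by omega) hj), finrank_E (hble t j ht.le hj.le),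
            finrank_E (hble (t + 1) j ht hj.le), finrank_E (hble t (j + 1) (by omega) hj)]
          exact hdiff' t j ht hj)
        (by simp [E, hb0])
      exact ⟨L, fun _ => hL⟩
    · exact ⟨0, fun h => absurd h hj⟩
  choose L hL using hex
  refine ⟨fun j => LinearMap.toMatrix' (L j), fun i j hi hij hjr => ?_⟩
  have key : img (fun j => LinearMap.toMatrix' (L j)) i j =
      (E (d j) (b i j) : Submodule k (Fin (d j) → k)) := by
    induction j, hij using Nat.le_induction with
    | base =>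
      rw [img_self, hbp i i hi, hdiag i hi hjr]
      refine (Submodule.eq_top_of_finrank_eq ?_).symm
      rw [finrank_E le_rfl, finrank_fin_fun]
    | succ j hj ih =>
      rw [img_succ _ hj, ih (by omega), Matrix.toLin'_toMatrix']
      exact hL j (by omega) i hj
  rw [rankArray_eq _ hij, key, finrank_E (hble i j hij hjr), hbp i j hi]

end

end StackCountA.RankArr
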