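import Mathlib.FieldTheory.KrullTopology
import Mathlib.FieldTheory.Finite.GaloisField
import Mathlib.FieldTheory.IsAlgClosed.AlgebraicClosure
import Groth.Prelude.Def_GSzH1

/-!
# Locally constant cocycles of the Galois group of a finite field
-/

set_option autoImplicit false
set_option linter.style.haveILetI false

universe u v

open Polynomial

namespace StackCountA.Procyclic

noncomputable section

variable {k : Type u} [Field k] [Finite k]
variable {π : AlgebraicClosure k ≃ₐ[k] AlgebraicClosure k}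
variable (hπ : ∀ x : AlgebraicClosure k, π x = x ^ Nat.card k)
include hπ

theorem pow_apply (n : ℕ) (x : AlgebraicClosure k) : (π ^ n) x = x ^ (Nat.card k ^ n) := by
  induction n with
  | zero => simp
  | succ n ih => rw [pow_succ', AlgEquiv.mul_apply, ih, hπ, ← pow_mul, pow_succ]

theorem fix_finite {N : ℕ} (hN : 0 < N) : {x : AlgebraicClosure k | (π ^ N) x = x}.Finite := by
  classical
  have hq : 1 < Nat.card k ^ N := Nat.one_lt_pow hN.ne' Finite.one_lt_card
  refine Set.Finite.subset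
    ((X ^ (Nat.card k ^ N) - X : (AlgebraicClosure k)[X]).roots.toFinset.finite_toSet) fun x hx => ?_
  have hx' : (π ^ N) x = x := hx
  rw [pow_apply hπ] at hx'
  simp [FiniteField.X_pow_card_sub_X_ne_zero _ hq, hx']

theorem dvd_of_forall_fix {N n : ℕ} (hN : 0 < N)
    (h : ∀ x : AlgebraicClosure k, (π ^ N) x = x → (π ^ n) x = x) : N ∣ n := by
  classical
  have h' : ∀ x : AlgebraicClosure k, (π ^ N) x = x → (π ^ (n % N)) x = x := by
    intro x hx
    have hmul : ∀ j : ℕ, (π ^ (N * j)) x = x := by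
      intro j
      induction j with
      | zero => simp
      | succ j ih => rw [Nat.mul_succ, pow_add, AlgEquiv.mul_apply, hx, ih]
    have h1 := h x hx
    rw [← Nat.mod_add_div n N, pow_add, AlgEquiv.mul_apply, hmul] at h1
    exact h1
  by_contra hnd
  have hr : 0 < n % N := Nat.pos_of_ne_zero fun h0 => hnd (Nat.dvd_of_mod_eq_zero h0)
  set q := Nat.card k
  have hq : 1 < q := Finite.one_lt_card
  obtain ⟨p, hp⟩ := CharP.exists k
  haveI : CharP (AlgebraicClosure k) p := charP_of_injective_algebraMap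
    (algebraMap k (AlgebraicClosure k)).injective p
  have := Fintype.ofFinite k
  obtain ⟨e, hpp, he⟩ := FiniteField.card k p
  have hqN : q ^ N = p ^ ((e : ℕ) * N) := by
    rw [pow_mul, show q = Fintype.card k from Nat.card_eq_fintype_card, he]
  have hsep : (X ^ (q ^ N) - X : (AlgebraicClosure k)[X]).Separable := by
    rw [hqN]
    exact galois_poly_separable p _ (dvd_pow_self p (Nat.mul_ne_zero e.pos.ne' hN.ne'))
  have hcard : (X ^ (q ^ N) - X : (AlgebraicClosure k)[X]).roots.toFinset.card = q ^ N := by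
    rw [Multiset.toFinset_card_of_nodup (nodup_roots hsep),
      ← (IsAlgClosed.splits _).natDegree_eq_card_roots,
      FiniteField.X_pow_card_sub_X_natDegree_eq _ (Nat.one_lt_pow hN.ne' hq)]
  have hsub : (X ^ (q ^ N) - X : (AlgebraicClosure k)[X]).roots.toFinset ⊆
      (X ^ (q ^ (n % N)) - X : (AlgebraicClosure k)[X]).roots.toFinset := by
    intro x hx
    simp [FiniteField.X_pow_card_sub_X_ne_zero _ (Nat.one_lt_pow hN.ne' hq), sub_eq_zero] at hx
    have := h' x (by rw [pow_apply hπ]; exact hx)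
    rw [pow_apply hπ] at this
    refine Multiset.mem_toFinset.mpr
      ((mem_roots (FiniteField.X_pow_card_sub_X_ne_zero _ (Nat.one_lt_pow hr.ne' hq))).mpr ?_)
    simp only [IsRoot.def, eval_sub, eval_pow, eval_X, sub_eq_zero]
    exact this
  have h2 := (Finset.card_le_card hsub).trans ((Multiset.toFinset_card_le _).trans (card_roots' _))
  rw [hcard, FiniteField.X_pow_card_sub_X_natDegree_eq _ (Nat.one_lt_pow hr.ne' hq)] at h2
  exact absurd ((Nat.pow_le_pow_iff_right hq).mp h2) (Nat.not_le.mpr (Nat.mod_lt n hN))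

theorem exists_pow_agree (σ : AlgebraicClosure k ≃ₐ[k] AlgebraicClosure k) {N : ℕ} (hN : 0 < N) :
    ∃ n : ℕ, ∀ x : AlgebraicClosure k, (π ^ N) x = x → σ x = (π ^ n) x := by
  classical
  let E := IntermediateField.adjoin k {x : AlgebraicClosure k | (π ^ N) x = x}
  haveI : Finite {x : AlgebraicClosure k | (π ^ N) x = x} := (fix_finite hπ hN).to_subtype
  haveI : FiniteDimensional k E :=
    IntermediateField.finiteDimensional_adjoin fun x _ => Algebra.IsIntegral.isIntegral x
  haveI : Finite E := Module.finite_of_finite k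
  haveI : Normal k E := inferInstance
  have := Fintype.ofFinite k
  obtain ⟨n, hn⟩ := (FiniteField.bijective_frobeniusAlgEquivOfAlgebraic_pow k E).2 (σ.restrictNormal E)
  refine ⟨n, fun x hx => ?_⟩
  have hxE : x ∈ E := IntermediateField.subset_adjoin k _ hx
  have h1 := AlgEquiv.restrictNormal_commutes σ E ⟨x, hxE⟩
  rw [← hn] at h1
  change _ = σ x at h1
  rw [← h1, pow_apply hπ]
  simp [AlgEquiv.coe_pow, FiniteField.coe_frobeniusAlgEquivOfAlgebraic_iterate, Nat.card_eq_fintype_card]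

theorem exists_fix_subset {s : Set (AlgebraicClosure k ≃ₐ[k] AlgebraicClosure k)} (hs : s ∈ nhds 1) :
    ∃ d : ℕ, 0 < d ∧ ∀ σ : AlgebraicClosure k ≃ₐ[k] AlgebraicClosure k,
      (∀ x : AlgebraicClosure k, (π ^ d) x = x → σ x = x) → σ ∈ s := by
  obtain ⟨E, hE, hEs⟩ := (krullTopology_mem_nhds_one_iff _ _ s).mp hs
  haveI : Finite E := Module.finite_of_finite k
  have := Fintype.ofFinite E
  have := Fintype.ofFinite k
  refine ⟨Module.finrank k E, Module.finrank_pos, fun σ hσ => hEs ?_⟩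
  rw [SetLike.mem_coe, IntermediateField.mem_fixingSubgroup_iff]
  intro x hx
  apply hσ
  rw [pow_apply hπ, Nat.card_eq_fintype_card, ← Module.card_eq_pow_finrank (K := k) (V := E)]
  exact congrArg Subtype.val (FiniteField.pow_card (⟨x, hx⟩ : E))

theorem isOpen_fix {N : ℕ} (hN : 0 < N) (σ₀ : AlgebraicClosure k ≃ₐ[k] AlgebraicClosure k) :
    IsOpen {σ : AlgebraicClosure k ≃ₐ[k] AlgebraicClosure k |
      ∀ x : AlgebraicClosure k, (π ^ N) x = x → σ x = σ₀ x} := by
  let E := IntermediateField.adjoin k {x : AlgebraicClosure k | (π ^ N) x = x}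
  haveI : Finite {x : AlgebraicClosure k | (π ^ N) x = x} := (fix_finite hπ hN).to_subtype
  haveI : FiniteDimensional k E :=
    IntermediateField.finiteDimensional_adjoin fun x _ => Algebra.IsIntegral.isIntegral x
  rw [isOpen_iff_forall_mem_open]
  intro σ hσ
  refine ⟨(fun τ => σ⁻¹ * τ) ⁻¹' (E.fixingSubgroup : Set _), fun τ hτ x hx => ?_,
    (IntermediateField.fixingSubgroup_isOpen E).preimage (continuous_const_mul _),
    by simp⟩
  have h1 := (IntermediateField.mem_fixingSubgroup_iff E _).mp hτ x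
    (IntermediateField.subset_adjoin k _ hx)
  rw [AlgEquiv.mul_apply] at h1
  have h2 := congrArg σ h1
  rw [show σ (σ⁻¹ (τ x)) = τ x from σ.apply_symm_apply _] at h2
  rw [h2]
  exact hσ x hx

variable {A : Type v} [Group A] [MulDistribMulAction (AlgebraicClosure k ≃ₐ[k] AlgebraicClosure k) A]

open GpH1

theorem injective {z z' : OneCocycleLC (AlgebraicClosure k ≃ₐ[k] AlgebraicClosure k) A}
    (h : z.1 π = z'.1 π) : z = z' := by
  have hone : ∀ w : OneCocycleLC (AlgebraicClosure k ≃ₐ[k] AlgebraicClosure k) A, w.1 1 = 1 := by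
    intro w
    have := w.1.2 1 1
    rw [mul_one, one_smul] at this
    exact mul_eq_left.mp this.symm
  have hpow : ∀ n : ℕ, z.1 (π ^ n) = z'.1 (π ^ n) := by
    intro n
    induction n with
    | zero => rw [pow_zero, hone, hone]
    | succ n ih => rw [pow_succ', z.1.2, z'.1.2, h, ih]
  refine Subtype.ext (OneCocycle.ext fun σ => ?_)
  have hmem : (fun τ => z.1 (σ * τ)) ⁻¹' {z.1 σ} ∩ (fun τ => z'.1 (σ * τ)) ⁻¹' {z'.1 σ} ∈
      nhds (1 : AlgebraicClosure k ≃ₐ[k] AlgebraicClosure k) := by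
    refine IsOpen.mem_nhds (IsOpen.inter ?_ ?_) ⟨by simp, by simp⟩
    · exact (z.2.isOpen_fiber _).preimage (continuous_const_mul _)
    · exact (z'.2.isOpen_fiber _).preimage (continuous_const_mul _)
  obtain ⟨d, hd, hd'⟩ := exists_fix_subset hπ hmem
  obtain ⟨n, hn⟩ := exists_pow_agree hπ σ hd
  obtain ⟨h1, h2⟩ := hd' (σ⁻¹ * π ^ n) (fun x hx => by
    rw [AlgEquiv.mul_apply, ← hn x hx]
    exact σ.symm_apply_apply x)
  simp only [Set.mem_preimage, Set.mem_singleton_iff, mul_inv_cancel_left] at h1 h2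
  rw [← h1, ← h2, hpow]

theorem surjective
    (hcont : ∀ a : A, IsOpen {σ : AlgebraicClosure k ≃ₐ[k] AlgebraicClosure k | σ • a = a})
    (hfin : ∀ a : A, ∃ H : Subgroup A, (H : Set A).Finite ∧ a ∈ H ∧
      ∀ (σ : AlgebraicClosure k ≃ₐ[k] AlgebraicClosure k) (x : A), x ∈ H → σ • x ∈ H) (a : A) :
    ∃ z : OneCocycleLC (AlgebraicClosure k ≃ₐ[k] AlgebraicClosure k) A, z.1 π = a := by
  classical
  obtain ⟨H, hH, haH, hst⟩ := hfin a
  have hmem : (⋂ b ∈ (H : Set A), {σ : AlgebraicClosure k ≃ₐ[k] AlgebraicClosure k | σ • b = b}) ∈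
      nhds (1 : AlgebraicClosure k ≃ₐ[k] AlgebraicClosure k) :=
    (hH.isOpen_biInter fun b _ => hcont b).mem_nhds (by simp)
  obtain ⟨d, hd, hd'⟩ := exists_fix_subset hπ hmem
  let s : ℕ → A := fun n => Nat.rec (motive := fun _ => A) 1 (fun n r => r * π ^ n • a) n
  have hs0 : s 0 = 1 := rfl
  have hs1 : ∀ n, s (n + 1) = s n * π ^ n • a := fun n => rfl
  have hsH : ∀ n, s n ∈ H := by
    intro n
    induction n with
    | zero => exact H.one_mem
    | succ n ih => exact H.mul_mem ih (hst _ _ haH)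
  have hadd : ∀ m n, s (m + n) = s m * π ^ m • s n := by
    intro m n
    induction n with
    | zero => rw [Nat.add_zero, hs0, smul_one, mul_one]
    | succ n ih =>
      rw [← Nat.add_assoc, hs1, ih, hs1, smul_mul', ← mul_smul, ← pow_add, mul_assoc]
  have hperd : ∀ j, ∀ b ∈ H, π ^ (d * j) • b = b := by
    intro j b hb
    refine Set.mem_iInter₂.mp (hd' (π ^ (d * j)) fun x hx => ?_) b hb
    induction j with
    | zero => simp
    | succ j ih => rw [Nat.mul_succ, pow_add, AlgEquiv.mul_apply, hx, ih]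
  have hsmul : ∀ j, s (d * j) = s d ^ j := by
    intro j
    induction j with
    | zero => simp [hs0]
    | succ j ih => rw [Nat.mul_succ, hadd, ih, hperd j _ (hsH d), pow_succ]
  haveI : Finite H := hH.to_subtype
  obtain ⟨e, he, hse⟩ : ∃ e, 0 < e ∧ s d ^ e = 1 :=
    ⟨orderOf (⟨s d, hsH d⟩ : H), orderOf_pos _, by
      have := pow_orderOf_eq_one (⟨s d, hsH d⟩ : H)
      exact congrArg Subtype.val this⟩
  set N := d * e with hNdef
  have hN : 0 < N := Nat.mul_pos hd he
  have hsN : ∀ j, s (N * j) = 1 := by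
    intro j
    rw [hNdef, Nat.mul_assoc, hsmul, pow_mul, hse, one_pow]
  have hper : ∀ m n, (∀ x : AlgebraicClosure k, (π ^ N) x = x → (π ^ m) x = (π ^ n) x) →
      s m = s n ∧ ∀ b ∈ H, π ^ m • b = π ^ n • b := by
    intro m n
    wlog hmn : m ≤ n generalizing m n
    · intro h
      obtain ⟨e1, e2⟩ := this n m (by omega) fun x hx => (h x hx).symm
      exact ⟨e1.symm, fun b hb => (e2 b hb).symm⟩
    intro h
    obtain ⟨c, rfl⟩ := Nat.exists_eq_add_of_le hmn
    obtain ⟨j, rfl⟩ := dvd_of_forall_fix hπ hN (n := c) fun x hx => by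
      have := h x hx
      rw [pow_add, AlgEquiv.mul_apply] at this
      exact ((π ^ m).injective this).symm
    have hb : ∀ b ∈ H, π ^ (N * j) • b = b := fun b hb => by
      rw [hNdef, Nat.mul_assoc]; exact hperd _ b hb
    refine ⟨?_, fun b hbH => ?_⟩
    · rw [hadd, hsN, smul_one, mul_one]
    · rw [pow_add, mul_smul, hb b hbH]
  choose n hn using fun σ => exists_pow_agree hπ σ hN
  have hstab : ∀ (σ : AlgebraicClosure k ≃ₐ[k] AlgebraicClosure k) (x : AlgebraicClosure k),
      (π ^ N) x = x → (π ^ N) (σ x) = σ x := by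
    intro σ x hx
    rw [pow_apply hπ] at hx ⊢
    rw [← map_pow, hx]
  refine ⟨⟨⟨fun σ => s (n σ), fun σ τ => ?_⟩, ?_⟩, ?_⟩
  · have hagree : ∀ x : AlgebraicClosure k, (π ^ N) x = x → (π ^ n (σ * τ)) x = (π ^ (n σ + n τ)) x := by
      intro x hx
      rw [← hn _ x hx, AlgEquiv.mul_apply, pow_add, AlgEquiv.mul_apply, ← hn τ x hx,
        ← hn σ _ (hstab τ x hx)]
    change s (n (σ * τ)) = s (n σ) * σ • s (n τ)
    rw [(hper _ _ hagree).1, hadd]
    congr 1
    have h3 : σ⁻¹ * π ^ n σ ∈ (⋂ b ∈ (H : Set A),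
        {σ : AlgebraicClosure k ≃ₐ[k] AlgebraicClosure k | σ • b = b}) := by
      refine hd' _ fun x hx => ?_
      have hxN : (π ^ N) x = x := by
        rw [hNdef, pow_mul]
        have hfix : ∀ j : ℕ, ((π ^ d) ^ j) x = x := by
          intro j
          induction j with
          | zero => simp
          | succ j ih => rw [pow_succ, AlgEquiv.mul_apply, hx, ih]
        exact hfix e
      rw [AlgEquiv.mul_apply, ← hn σ x hxN]
      exact σ.symm_apply_apply x
    have h4 : (σ⁻¹ * π ^ n σ) • s (n τ) = s (n τ) := Set.mem_iInter₂.mp h3 _ (hsH _)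
    conv_rhs => rw [← h4, ← mul_smul, mul_inv_cancel_left]
  · rw [IsLocallyConstant.iff_exists_open]
    intro σ
    refine ⟨_, isOpen_fix hπ hN σ, fun x _ => rfl, fun τ hτ => ?_⟩
    exact (hper _ _ fun x hx => by rw [← hn τ x hx, ← hn σ x hx, hτ x hx]).1
  · have h1 := (hper (n π) 1 fun x hx => by rw [← hn π x hx, pow_one]).1
    change s (n π) = a
    rw [h1, show s 1 = s 0 * π ^ 0 • a from rfl, hs0, pow_zero, one_smul, one_mul]

theorem cl_eq_iff
    (hcont : ∀ a : A, IsOpen {σ : AlgebraicClosure k ≃ₐ[k] AlgebraicClosure k | σ • a = a})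
    (z z' : OneCocycleLC (AlgebraicClosure k ≃ₐ[k] AlgebraicClosure k) A) :
    z.cl = z'.cl ↔ ∃ g : A, z'.1 π = g * z.1 π * (π • g)⁻¹ := by
  rw [OneCocycleLC.cl_eq_cl_iff]
  constructor
  · rintro ⟨c, hc⟩
    exact ⟨c, by rw [hc π]; group⟩
  · rintro ⟨g, hg⟩
    refine ⟨g, fun σ => ?_⟩
    have hw : IsOneCocycle fun σ : AlgebraicClosure k ≃ₐ[k] AlgebraicClosure k =>
        g * z.1 σ * (σ • g)⁻¹ := by
      intro σ τ
      simp only [z.1.2 σ τ, smul_mul', smul_inv', ← mul_smul]
      group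
    have hlc : IsLocallyConstant fun σ : AlgebraicClosure k ≃ₐ[k] AlgebraicClosure k => σ • g := by
      rw [IsLocallyConstant.iff_exists_open]
      intro σ
      refine ⟨(fun τ => σ⁻¹ * τ) ⁻¹' {τ | τ • g = g},
        (hcont g).preimage (continuous_const_mul _), by simp, fun τ hτ => ?_⟩
      have : (σ⁻¹ * τ) • g = g := hτ
      rwa [mul_smul, inv_smul_eq_iff] at this
    have heq : (⟨⟨_, hw⟩, IsLocallyConstant.comp₂ z.2 hlc (fun a b => g * a * b⁻¹)⟩ :
        OneCocycleLC (AlgebraicClosure k ≃ₐ[k] AlgebraicClosure k) A) = z' := injective hπ hg.symm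
    have := congrArg (fun w : OneCocycleLC (AlgebraicClosure k ≃ₐ[k] AlgebraicClosure k) A => w.1 σ) heq
    change g * z.1 σ * (σ • g)⁻¹ = z'.1 σ at this
    rw [← this]
    group

end

end StackCountA.Procyclic
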